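import Mathlib
import Groth.Prelude.Def_W4c5nonratstablectREq
import Groth.Agent.Lib.Helper1.ProjUP1

/-!
# Direct R-links from lines (helper2)

A chart of the projective line over a field `K` (an open `W` of `P^1_K` with a morphism to
`Spec K[X]` and `K`-points over the evaluation points), and the resulting criterion: a morphism
`Spec K[X] ⟶ Y` over `k` whose values at `0` and `1` are two given `K`-points of an open `V ⊆ Y`
directly R-links these points in `V`.
-/

set_option autoImplicit false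
set_option backward.isDefEq.respectTransparency.types false
set_option synthInstance.maxHeartbeats 400000
set_option maxHeartbeats 4000000
set_option linter.style.haveILetI false
set_option linter.unusedSectionVars false
set_option linter.unusedVariables false
set_option linter.unusedSimpArgs false

universe u

open CategoryTheory CategoryTheory.Limits AlgebraicGeometry HomogeneousLocalization

namespace Groth.Agent.Helper2.REqLib

open Groth.Agent.Helper1.ProjUP1

variable (K : Type u) [Field K]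

/-- The structure map `Spec K[X] ⟶ Spec K`. -/
noncomputable abbrev polyToK :
    Spec (CommRingCat.of (Polynomial K)) ⟶ Spec (CommRingCat.of K) :=
  Spec.map (CommRingCat.ofHom (Polynomial.C : K →+* Polynomial K))

/-- The `K`-point `X = c` of the affine line. -/
noncomputable abbrev evalPt (c : K) :
    Spec (CommRingCat.of K) ⟶ Spec (CommRingCat.of (Polynomial K)) :=
  Spec.map (CommRingCat.ofHom (Polynomial.evalRingHom c))

theorem evalPt_polyToK (c : K) : evalPt K c ≫ polyToK K = 𝟙 _ := by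
  rw [← Spec.map_comp, ← CommRingCat.ofHom_comp]
  have : (Polynomial.evalRingHom c).comp (Polynomial.C : K →+* Polynomial K) = RingHom.id K := by
    ext a; simp
  rw [this]
  exact Spec.map_id _

section Chart

/-- the polynomial ring `ℤ[T_0, T_1]` -/
abbrev SS : Type u := MvPolynomial (Fin (1 + 1)) (ULift.{u} ℤ)

/-- the grading of `ℤ[T_0, T_1]` -/
noncomputable abbrev gr : ℕ → Submodule (ULift.{u} ℤ) SS.{u} := CohB1.polyGrading 1 (ULift.{u} ℤ)

theorem X_mem (i : Fin (1 + 1)) : (MvPolynomial.X i : SS.{u}) ∈ gr.{u} 1 :=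
  MvPolynomial.isHomogeneous_X _ i

theorem X_mem' (i : Fin (1 + 1)) : (MvPolynomial.X i : SS.{u}) ∈ gr.{u} (1 • 1) := by
  simpa using X_mem i

/-- the projection `P^1_K ⟶ P^1_ℤ` -/
noncomputable def fstP : REq.P1K K ⟶ Proj gr.{u} :=
  pullback.fst (CohB1.ProjSpace.toSpec 1 (ULift.{u} ℤ))
    (specULiftZIsTerminal.from (Spec (CommRingCat.of K)))

/-- the chart `T_0 ≠ 0` of the projective line over `K` -/
noncomputable def chartW : (REq.P1K K).Opens :=
  (fstP K) ⁻¹ᵁ Proj.basicOpen gr.{u} (MvPolynomial.X 0 : SS.{u})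

/-- the map from the chart to `Spec ℤ[T_1/T_0]` -/
noncomputable def chartC : (chartW K : Scheme.{u}) ⟶ Spec (CommRingCat.of (Away gr.{u} (MvPolynomial.X 0 : SS.{u}))) :=
  IsOpenImmersion.lift (Proj.awayι gr.{u} (MvPolynomial.X 0 : SS.{u}) (X_mem 0) Nat.one_pos)
    ((chartW K).ι ≫ fstP K) (by
      rintro _ ⟨x, rfl⟩
      have h1 : (Proj.awayι gr.{u} (MvPolynomial.X 0 : SS.{u}) (X_mem 0) Nat.one_pos).opensRange =
          Proj.basicOpen gr.{u} (MvPolynomial.X 0 : SS.{u}) := Proj.opensRange_awayι _ _ _ _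
      have h2 : ((chartW K).ι ≫ fstP K) x ∈
          Proj.basicOpen gr.{u} (MvPolynomial.X 0 : SS.{u}) := by
        rw [Scheme.Hom.comp_apply]
        exact x.2
      rw [← h1] at h2
      exact h2)

theorem chartC_fac : chartC K ≫ Proj.awayι gr.{u} (MvPolynomial.X 0 : SS.{u}) (X_mem 0) Nat.one_pos =
    (chartW K).ι ≫ fstP K :=
  IsOpenImmersion.lift_fac _ _ _

/-- the coordinate function on the chart -/
noncomputable def chartT : Γ((chartW K : Scheme.{u}), ⊤) :=
  (chartC K).appTop ((Scheme.ΓSpecIso _).inv (Away.mk gr.{u} (X_mem 0) 1 (MvPolynomial.X 1 : SS.{u}) (X_mem' 1)))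

/-- the constants on the chart -/
noncomputable def chartK : K →+* Γ((chartW K : Scheme.{u}), ⊤) :=
  (((chartW K).ι ≫ REq.P1K.toSpec K).appTop).hom.comp
    (Scheme.ΓSpecIso (CommRingCat.of K)).inv.hom

/-- the ring map `K[X] ⟶ Γ(W)` -/
noncomputable def chartPsi : Polynomial K →+* Γ((chartW K : Scheme.{u}), ⊤) :=
  Polynomial.eval₂RingHom (chartK K) (chartT K)

/-- the morphism from the chart to the affine line -/
noncomputable def chartG : (chartW K : Scheme.{u}) ⟶ Spec (CommRingCat.of (Polynomial K)) :=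
  (chartW K : Scheme.{u}).toSpecΓ ≫ Spec.map (CommRingCat.ofHom (chartPsi K))

theorem chartG_polyToK : chartG K ≫ polyToK K = (chartW K).ι ≫ REq.P1K.toSpec K := by
  have h2 : CommRingCat.ofHom (Polynomial.C : K →+* Polynomial K) ≫
      CommRingCat.ofHom (chartPsi K) =
      (Scheme.ΓSpecIso (CommRingCat.of K)).inv ≫ ((chartW K).ι ≫ REq.P1K.toSpec K).appTop := by
    ext a
    simp [chartPsi, chartK]
  calc chartG K ≫ polyToK K
      = (chartW K : Scheme.{u}).toSpecΓ ≫ Spec.map (CommRingCat.ofHom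
          (Polynomial.C : K →+* Polynomial K) ≫ CommRingCat.ofHom (chartPsi K)) := by
        unfold chartG
        rw [Category.assoc, ← Spec.map_comp]
    _ = (chartW K : Scheme.{u}).toSpecΓ ≫ Spec.map ((Scheme.ΓSpecIso (CommRingCat.of K)).inv ≫
          ((chartW K).ι ≫ REq.P1K.toSpec K).appTop) :=
        congrArg (fun m => (chartW K : Scheme.{u}).toSpecΓ ≫ Spec.map m) h2
    _ = _ := by
        rw [Spec.map_comp, ← Category.assoc, ← Scheme.toSpecΓ_naturality, Category.assoc,
          toSpecΓ_SpecMap_ΓSpecIso_inv, Category.comp_id]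

/-- the unique ring map from `ℤ` -/
noncomputable def intHom (B : Type u) [CommRing B] : ULift.{u} ℤ →+* B :=
  (Int.castRingHom B).comp (ULift.ringEquiv : ULift.{u} ℤ ≃+* ℤ).toRingHom

/-- homogeneous coordinates `[1 : c]` -/
noncomputable def ptE (c : K) : SS.{u} →+* K :=
  MvPolynomial.eval₂Hom (intHom K) ![1, c]

theorem ptE_X0 (c : K) : ptE K c (MvPolynomial.X 0) = 1 := by
  simp [ptE]

theorem ptE_X1 (c : K) : ptE K c (MvPolynomial.X 1) = c := by
  simp [ptE]

theorem isUnit_ptE (c : K) : IsUnit (ptE K c (MvPolynomial.X 0)) := by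
  rw [ptE_X0]; exact isUnit_one

/-- the point `[1 : c]` of the projective line -/
noncomputable def ptQ (c : K) : Spec (CommRingCat.of K) ⟶ REq.P1K K :=
  pullback.lift
    (Spec.map (CommRingCat.ofHom (awayLift gr.{u} (ptE K c) (MvPolynomial.X 0) (isUnit_ptE K c))) ≫
      Proj.awayι gr.{u} (MvPolynomial.X 0 : SS.{u}) (X_mem 0) Nat.one_pos)
    (𝟙 _) (specULiftZIsTerminal.hom_ext _ _)

theorem ptQ_fst (c : K) : ptQ K c ≫ fstP K =
    Spec.map (CommRingCat.ofHom (awayLift gr.{u} (ptE K c) (MvPolynomial.X 0) (isUnit_ptE K c))) ≫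
      Proj.awayι gr.{u} (MvPolynomial.X 0 : SS.{u}) (X_mem 0) Nat.one_pos :=
  pullback.lift_fst _ _ _

theorem ptQ_snd (c : K) : ptQ K c ≫ REq.P1K.toSpec K = 𝟙 _ :=
  pullback.lift_snd _ _ _

/-- the point `[1 : c]` of the chart -/
noncomputable def ptP (c : K) : Spec (CommRingCat.of K) ⟶ (chartW K : Scheme.{u}) :=
  IsOpenImmersion.lift (chartW K).ι (ptQ K c) (by
    rintro _ ⟨x, rfl⟩
    rw [Scheme.Opens.range_ι]
    change (fstP K) ((ptQ K c) x) ∈ Proj.basicOpen gr.{u} (MvPolynomial.X 0 : SS.{u})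
    rw [← Scheme.Hom.comp_apply, ptQ_fst, Scheme.Hom.comp_apply]
    have h1 : (Proj.awayι gr.{u} (MvPolynomial.X 0 : SS.{u}) (X_mem 0) Nat.one_pos).opensRange =
        Proj.basicOpen gr.{u} (MvPolynomial.X 0 : SS.{u}) := Proj.opensRange_awayι _ _ _ _
    rw [← h1]
    exact ⟨_, rfl⟩)

theorem ptP_ι (c : K) : ptP K c ≫ (chartW K).ι = ptQ K c :=
  IsOpenImmersion.lift_fac _ _ _

theorem ptP_chartC (c : K) : ptP K c ≫ chartC K =
    Spec.map (CommRingCat.ofHom (awayLift gr.{u} (ptE K c) (MvPolynomial.X 0) (isUnit_ptE K c))) := by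
  rw [← cancel_mono (Proj.awayι gr.{u} (MvPolynomial.X 0 : SS.{u}) (X_mem 0) Nat.one_pos), Category.assoc,
    chartC_fac, ← Category.assoc, ptP_ι, ptQ_fst]

theorem ptP_chartG (c : K) : ptP K c ≫ chartG K = evalPt K c := by
  unfold chartG
  rw [← Category.assoc, Scheme.toSpecΓ_naturality, ← SpecMap_ΓSpecIso_hom, Category.assoc,
    ← Spec.map_comp, ← Spec.map_comp]
  congr 1
  ext1
  apply Polynomial.ringHom_ext
  · intro a
    change (Scheme.ΓSpecIso (CommRingCat.of K)).hom ((ptP K c).appTop (chartPsi K (Polynomial.C a))) =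
      Polynomial.evalRingHom c (Polynomial.C a)
    have h1 : chartPsi K (Polynomial.C a) = chartK K a := by simp [chartPsi]
    rw [h1]
    change (Scheme.ΓSpecIso (CommRingCat.of K)).hom ((ptP K c).appTop
      (((chartW K).ι ≫ REq.P1K.toSpec K).appTop ((Scheme.ΓSpecIso (CommRingCat.of K)).inv a))) = _
    have h2 : ((chartW K).ι ≫ REq.P1K.toSpec K).appTop ≫ (ptP K c).appTop = 𝟙 _ := by
      rw [← Scheme.Hom.comp_appTop, ← Category.assoc, ptP_ι, ptQ_snd]
      rfl
    have h3 := congrArg (fun f => f.hom ((Scheme.ΓSpecIso (CommRingCat.of K)).inv a)) h2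
    simp only [CommRingCat.hom_comp, RingHom.comp_apply] at h3
    erw [h3]
    simp
  · change (Scheme.ΓSpecIso (CommRingCat.of K)).hom ((ptP K c).appTop (chartPsi K Polynomial.X)) =
      Polynomial.evalRingHom c Polynomial.X
    have h1 : chartPsi K Polynomial.X = chartT K := by simp [chartPsi]
    rw [h1]
    unfold chartT
    have h2 : (chartC K).appTop ≫ (ptP K c).appTop =
        (Spec.map (CommRingCat.ofHom (awayLift gr.{u} (ptE K c) (MvPolynomial.X 0)
          (isUnit_ptE K c)))).appTop := by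
      rw [← Scheme.Hom.comp_appTop, ptP_chartC]
    have h3 := congrArg (fun f => f.hom ((Scheme.ΓSpecIso _).inv
      (Away.mk gr.{u} (X_mem 0) 1 (MvPolynomial.X 1 : SS.{u}) (X_mem' 1)))) h2
    simp only [CommRingCat.hom_comp, RingHom.comp_apply] at h3
    erw [h3]
    have h4 := Scheme.ΓSpecIso_inv_naturality
      (CommRingCat.ofHom (awayLift gr.{u} (ptE K c) (MvPolynomial.X 0) (isUnit_ptE K c)))
    have h5 := congrArg (fun f => f.hom
      (Away.mk gr.{u} (X_mem 0) 1 (MvPolynomial.X 1 : SS.{u}) (X_mem' 1))) h4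
    simp only [CommRingCat.hom_comp, RingHom.comp_apply] at h5
    erw [← h5]
    simp only [CommRingCat.hom_ofHom]
    rw [awayLift_mk gr.{u} (ptE K c) (X_mem 0) (isUnit_ptE K c) 1 _ (X_mem' 1), ptE_X1]
    have h6 : (((isUnit_ptE K c).unit⁻¹ : Kˣ) : K) = 1 := by
      have : (isUnit_ptE K c).unit = 1 := by
        ext
        simp [ptE_X0]
      rw [this]; simp
    rw [h6]
    simp

end Chart

/-- **The chart of the projective line**: an open `W` of `P^1_K`, a morphism to the affine line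
over `Spec K`, and `K`-points over the evaluation points. -/
theorem exists_chart : ∃ (W : (REq.P1K K).Opens)
    (g : (W : Scheme.{u}) ⟶ Spec (CommRingCat.of (Polynomial K)))
    (p : K → (Spec (CommRingCat.of K) ⟶ (W : Scheme.{u}))),
    g ≫ polyToK K = W.ι ≫ REq.P1K.toSpec K ∧ ∀ c, p c ≫ g = evalPt K c :=
  ⟨chartW K, chartG K, ptP K, chartG_polyToK K, ptP_chartG K⟩

variable {K}
variable {k : Type u} [Field k] [Algebra k K]

/-- **Line criterion for direct R-links.** -/
theorem elemLink_of_line {Y : Scheme.{u}} (s : Y ⟶ Spec (CommRingCat.of k)) (V : Y.Opens)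
    (line : Spec (CommRingCat.of (Polynomial K)) ⟶ Y)
    (hline : line ≫ s = polyToK K ≫ REq.specMap k K)
    (A B : REq.Pts (V.ι ≫ s) K)
    (hA : A.1 ≫ V.ι = evalPt K 0 ≫ line) (hB : B.1 ≫ V.ι = evalPt K 1 ≫ line) :
    REq.ElemLink (V.ι ≫ s) K A B := by
  obtain ⟨W, g, p, hg, hp⟩ := exists_chart K
  let gl : (W : Scheme.{u}) ⟶ Y := g ≫ line
  let U₁ : (W : Scheme.{u}).Opens := gl ⁻¹ᵁ V
  let U : (REq.P1K K).Opens := W.ι ''ᵁ U₁
  let e : (U : Scheme.{u}) ≅ (U₁ : Scheme.{u}) := (W.ι.isoImage U₁).symm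
  have he1 : e.hom ≫ U₁.ι ≫ W.ι = U.ι := W.ι.isoImage_inv_ι U₁
  have he2 : e.inv ≫ U.ι = U₁.ι ≫ W.ι := W.ι.isoImage_hom_ι U₁
  let h : (U : Scheme.{u}) ⟶ (V : Scheme.{u}) := e.hom ≫ (gl ∣_ V)
  have hh : h ≫ V.ι = e.hom ≫ U₁.ι ≫ gl := by
    change (e.hom ≫ (gl ∣_ V)) ≫ V.ι = _
    rw [Category.assoc, morphismRestrict_ι]
  -- the two points
  have hrange : ∀ (c : K) (C : REq.Pts (V.ι ≫ s) K), C.1 ≫ V.ι = evalPt K c ≫ line →
      Set.range (p c).base ⊆ Set.range U₁.ι.base := by
    intro c C hC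
    rintro _ ⟨x, rfl⟩
    rw [Scheme.Opens.range_ι]
    change gl ((p c) x) ∈ V
    rw [← Scheme.Hom.comp_apply]
    have : p c ≫ gl = C.1 ≫ V.ι := by
      change p c ≫ g ≫ line = _
      rw [← Category.assoc, hp, hC]
    rw [this, Scheme.Hom.comp_apply]
    exact (C.1 x).2
  let a₁ : Spec (CommRingCat.of K) ⟶ (U₁ : Scheme.{u}) :=
    IsOpenImmersion.lift U₁.ι (p 0) (hrange 0 A hA)
  let b₁ : Spec (CommRingCat.of K) ⟶ (U₁ : Scheme.{u}) :=
    IsOpenImmersion.lift U₁.ι (p 1) (hrange 1 B hB)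
  have ha₁ : a₁ ≫ U₁.ι = p 0 := IsOpenImmersion.lift_fac _ _ _
  have hb₁ : b₁ ≫ U₁.ι = p 1 := IsOpenImmersion.lift_fac _ _ _
  have hsec : ∀ c, p c ≫ W.ι ≫ REq.P1K.toSpec K = 𝟙 _ := by
    intro c
    rw [← hg, ← Category.assoc, hp, evalPt_polyToK]
  refine ⟨U, h, a₁ ≫ e.inv, b₁ ≫ e.inv, ?_, ?_, ?_, ?_, ?_⟩
  · rw [← Category.assoc, hh, Category.assoc, Category.assoc]
    change e.hom ≫ U₁.ι ≫ (g ≫ line) ≫ s = _
    rw [Category.assoc, hline, ← Category.assoc g, hg, ← he1]
    simp only [Category.assoc]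
  · rw [Category.assoc, ← Category.assoc e.inv, he2, Category.assoc, ← Category.assoc a₁, ha₁, hsec]
  · rw [Category.assoc, ← Category.assoc e.inv, he2, Category.assoc, ← Category.assoc b₁, hb₁, hsec]
  · rw [← cancel_mono V.ι, Category.assoc, hh, Category.assoc, Iso.inv_hom_id_assoc,
      ← Category.assoc, ha₁, hA]
    change p 0 ≫ g ≫ line = _
    rw [← Category.assoc, hp]
  · rw [← cancel_mono V.ι, Category.assoc, hh, Category.assoc, Iso.inv_hom_id_assoc,
      ← Category.assoc, hb₁, hB]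
    change p 1 ≫ g ≫ line = _
    rw [← Category.assoc, hp]

end Groth.Agent.Helper2.REqLib
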