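import Mathlib
import Groth.Prelude.Def_W4c5nonratstablectREq
import Groth.Agent.Lib.Helper2.REqLib.Link

/-!
# Direct R-links in opens of affine space, retract rational schemes (helper2)
-/

set_option autoImplicit false
set_option backward.isDefEq.respectTransparency.types false
set_option synthInstance.maxHeartbeats 400000
set_option maxHeartbeats 4000000
set_option linter.style.haveILetI false
set_option linter.unusedSectionVars false
set_option linter.unusedVariables false
set_option linter.unusedSimpArgs false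

universe u

open CategoryTheory CategoryTheory.Limits AlgebraicGeometry

namespace Groth.Agent.Helper2.REqLib

variable {k : Type u} [Field k]

/-- the structure morphism of affine `n`-space -/
noncomputable abbrev affStr (k : Type u) [Field k] (n : ℕ) :
    Spec (CommRingCat.of (MvPolynomial (Fin n) k)) ⟶ Spec (CommRingCat.of k) :=
  Spec.map (CommRingCat.ofHom (algebraMap k (MvPolynomial (Fin n) k)))

/-- the line through two points of affine space -/
noncomputable def lineHom {K : Type u} [Field K] [Algebra k K] (n : ℕ)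
    (α β : MvPolynomial (Fin n) k →+* K) : MvPolynomial (Fin n) k →+* Polynomial K :=
  MvPolynomial.eval₂Hom ((Polynomial.C : K →+* Polynomial K).comp (algebraMap k K))
    (fun m => Polynomial.C (α (MvPolynomial.X m)) * (1 - Polynomial.X) +
      Polynomial.C (β (MvPolynomial.X m)) * Polynomial.X)

theorem eval_comp_lineHom {K : Type u} [Field K] [Algebra k K] (n : ℕ)
    (α β : MvPolynomial (Fin n) k →+* K)
    (hα : ∀ c, α (MvPolynomial.C c) = algebraMap k K c)
    (hβ : ∀ c, β (MvPolynomial.C c) = algebraMap k K c) :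
    (Polynomial.evalRingHom (0 : K)).comp (lineHom n α β) = α ∧
      (Polynomial.evalRingHom (1 : K)).comp (lineHom n α β) = β := by
  constructor
  · apply MvPolynomial.ringHom_ext
    · intro c
      simp [lineHom, hα]
    · intro m
      simp [lineHom]
  · apply MvPolynomial.ringHom_ext
    · intro c
      simp [lineHom, hβ]
    · intro m
      simp [lineHom]

theorem hom_C_of_pt {K : Type u} [Field K] [Algebra k K] (n : ℕ)
    (P : Spec (CommRingCat.of K) ⟶ Spec (CommRingCat.of (MvPolynomial (Fin n) k)))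
    (hP : P ≫ affStr k n = REq.specMap k K) (c : k) :
    (Spec.preimage P).hom (MvPolynomial.C c) = algebraMap k K c := by
  have h1 : Spec.map (CommRingCat.ofHom (algebraMap k (MvPolynomial (Fin n) k)) ≫ Spec.preimage P) =
      Spec.map (CommRingCat.ofHom (algebraMap k K)) := by
    rw [Spec.map_comp, Spec.map_preimage]
    exact hP
  have h2 := Spec.map_injective h1
  have h3 := congrArg (fun f => f.hom c) h2
  exact h3

/-- **Two `K`-points of an open of affine space are directly R-linked.** -/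
theorem elemLink_affineSpace (n : ℕ) (V : (Spec (CommRingCat.of (MvPolynomial (Fin n) k))).Opens)
    (K : Type u) [Field K] [Algebra k K] (A B : REq.Pts (V.ι ≫ affStr k n) K) :
    REq.ElemLink (V.ι ≫ affStr k n) K A B := by
  let α := Spec.preimage (A.1 ≫ V.ι)
  let β := Spec.preimage (B.1 ≫ V.ι)
  have hα : Spec.map α = A.1 ≫ V.ι := Spec.map_preimage _
  have hβ : Spec.map β = B.1 ≫ V.ι := Spec.map_preimage _
  have hαC : ∀ c, α.hom (MvPolynomial.C c) = algebraMap k K c :=
    hom_C_of_pt n _ (by rw [Category.assoc]; exact A.2)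
  have hβC : ∀ c, β.hom (MvPolynomial.C c) = algebraMap k K c :=
    hom_C_of_pt n _ (by rw [Category.assoc]; exact B.2)
  obtain ⟨h0, h1⟩ := eval_comp_lineHom n α.hom β.hom hαC hβC
  refine elemLink_of_line (affStr k n) V (Spec.map (CommRingCat.ofHom (lineHom n α.hom β.hom)))
    ?_ A B ?_ ?_
  · rw [← Spec.map_comp, ← Spec.map_comp, ← CommRingCat.ofHom_comp, ← CommRingCat.ofHom_comp]
    congr 2
    ext c
    simp [lineHom]
  · rw [← Spec.map_comp, ← CommRingCat.ofHom_comp, h0, ← hα]
    rfl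
  · rw [← Spec.map_comp, ← CommRingCat.ofHom_comp, h1, ← hβ]
    rfl

/-- **Direct R-links on a retract of an open of affine space.** -/
theorem elemLink_of_retract {X : Scheme.{u}} (f : X ⟶ Spec (CommRingCat.of k)) (U : X.Opens)
    (n : ℕ) (V : (Spec (CommRingCat.of (MvPolynomial (Fin n) k))).Opens)
    (a : (U : Scheme.{u}) ⟶ (V : Scheme.{u})) (b : (V : Scheme.{u}) ⟶ (U : Scheme.{u}))
    (hab : a ≫ b = 𝟙 (U : Scheme.{u}))
    (ha : a ≫ V.ι ≫ affStr k n = U.ι ≫ f) (hb : b ≫ U.ι ≫ f = V.ι ≫ affStr k n)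
    (K : Type u) [Field K] [Algebra k K] (A B : REq.Pts (U.ι ≫ f) K) :
    REq.ElemLink (U.ι ≫ f) K A B := by
  let A' : REq.Pts (V.ι ≫ affStr k n) K := ⟨A.1 ≫ a, by rw [Category.assoc, ha]; exact A.2⟩
  let B' : REq.Pts (V.ι ≫ affStr k n) K := ⟨B.1 ≫ a, by rw [Category.assoc, ha]; exact B.2⟩
  obtain ⟨W, h, p, q, h1, h2, h3, h4, h5⟩ := elemLink_affineSpace n V K A' B'
  refine ⟨W, h ≫ b, p, q, ?_, h2, h3, ?_, ?_⟩
  · rw [Category.assoc, hb]
    exact h1
  · rw [← Category.assoc, h4]
    change (A.1 ≫ a) ≫ b = A.1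
    rw [Category.assoc, hab, Category.comp_id]
  · rw [← Category.assoc, h5]
    change (B.1 ≫ a) ≫ b = B.1
    rw [Category.assoc, hab, Category.comp_id]

/-- a nonempty open of affine space over an infinite field has a `K`-point -/
theorem exists_pt_of_nonempty_open [Infinite k] (n : ℕ)
    (V : (Spec (CommRingCat.of (MvPolynomial (Fin n) k))).Opens) (hV : (V : Set ↥(Spec (CommRingCat.of (MvPolynomial (Fin n) k)))).Nonempty)
    (K : Type u) [Field K] [Algebra k K] :
    ∃ P : Spec (CommRingCat.of K) ⟶ Spec (CommRingCat.of (MvPolynomial (Fin n) k)),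
      P ≫ affStr k n = REq.specMap k K ∧ Set.range P.base ⊆ (V : Set ↥(Spec (CommRingCat.of (MvPolynomial (Fin n) k)))) := by
  obtain ⟨x, hx⟩ := hV
  obtain ⟨_, ⟨g, rfl⟩, hxg, hgV⟩ :=
    (PrimeSpectrum.isTopologicalBasis_basic_opens (R := MvPolynomial (Fin n) k)).exists_subset_of_mem_open
    (show (x : PrimeSpectrum (MvPolynomial (Fin n) k)) ∈ (V.1 : Set _) from hx) V.2
  have hg0 : g ≠ 0 := by
    rintro rfl
    exact hxg (Ideal.zero_mem _)
  obtain ⟨c, hc⟩ : ∃ c : Fin n → k, MvPolynomial.eval c g ≠ 0 := by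
    by_contra hcon
    push Not at hcon
    exact hg0 (MvPolynomial.funext (by intro c; rw [hcon c, map_zero]))
  let φ : MvPolynomial (Fin n) k →+* K :=
    MvPolynomial.eval₂Hom (algebraMap k K) (fun i => algebraMap k K (c i))
  have hφg : φ g = algebraMap k K (MvPolynomial.eval c g) := by
    change MvPolynomial.eval₂ (algebraMap k K) (fun i => algebraMap k K (c i)) g = _
    rw [MvPolynomial.eval, MvPolynomial.coe_eval₂Hom, MvPolynomial.eval₂_comp_left (algebraMap k K)]
    simp
    rfl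
  refine ⟨Spec.map (CommRingCat.ofHom φ), ?_, ?_⟩
  · rw [← Spec.map_comp, ← CommRingCat.ofHom_comp]
    congr 2
    ext a
    simp [φ]
  · rintro _ ⟨y, rfl⟩
    apply hgV
    change g ∉ (PrimeSpectrum.comap φ y).asIdeal
    rw [PrimeSpectrum.comap_asIdeal, Ideal.mem_comap, hφg]
    intro hmem
    have hu : IsUnit (algebraMap k K (MvPolynomial.eval c g)) :=
      (isUnit_iff_ne_zero.2 hc).map _
    exact y.2.ne_top (Ideal.eq_top_of_isUnit_mem _ hmem hu)

/-- a link on an open subscheme is a link on the scheme -/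
theorem elemLink_of_open {X : Scheme.{u}} (f : X ⟶ Spec (CommRingCat.of k)) (U : X.Opens)
    (K : Type u) [Field K] [Algebra k K] (A B : REq.Pts f K) (A₀ B₀ : REq.Pts (U.ι ≫ f) K)
    (hA : A₀.1 ≫ U.ι = A.1) (hB : B₀.1 ≫ U.ι = B.1) (h : REq.ElemLink (U.ι ≫ f) K A₀ B₀) :
    REq.ElemLink f K A B := by
  obtain ⟨W, h, p, q, h1, h2, h3, h4, h5⟩ := h
  refine ⟨W, h ≫ U.ι, p, q, ?_, h2, h3, ?_, ?_⟩
  · rw [Category.assoc]; exact h1
  · rw [← Category.assoc, h4, hA]
  · rw [← Category.assoc, h5, hB]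

/-- **Retract rational integral schemes over infinite fields are almost R-trivial.** -/
theorem isAlmostRTrivial_of_retract [Infinite k] {X : Scheme.{u}} (f : X ⟶ Spec (CommRingCat.of k))
    [IsIntegral X] (hX : REq.IsRetractRational f) : REq.IsAlmostRTrivial f := by
  obtain ⟨U, n, V, a, b, hne, hab, ha, hb⟩ := hX
  refine ⟨U, U.2.dense hne, fun K _ _ => ⟨?_, ?_⟩⟩
  · -- a K-point in U
    have hVne : (V : Set ↥(Spec (CommRingCat.of (MvPolynomial (Fin n) k)))).Nonempty := by
      obtain ⟨x, hx⟩ := hne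
      exact ⟨V.ι (a ⟨x, hx⟩), (a ⟨x, hx⟩).2⟩
    obtain ⟨P, hP1, hP2⟩ := exists_pt_of_nonempty_open n V hVne K
    let P₀ : Spec (CommRingCat.of K) ⟶ (V : Scheme.{u}) :=
      IsOpenImmersion.lift V.ι P (by rw [Scheme.Opens.range_ι]; exact hP2)
    have hP₀ : P₀ ≫ V.ι = P := IsOpenImmersion.lift_fac _ _ _
    refine ⟨⟨P₀ ≫ b ≫ U.ι, ?_⟩, ?_⟩
    · rw [Category.assoc, Category.assoc, hb, ← Category.assoc, hP₀, hP1]
    · rintro _ ⟨y, rfl⟩
      change (P₀ ≫ b ≫ U.ι) y ∈ U
      rw [← Category.assoc, Scheme.Hom.comp_apply]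
      exact ((P₀ ≫ b) y).2
  · intro A B hA hB
    let A₀ : Spec (CommRingCat.of K) ⟶ (U : Scheme.{u}) :=
      IsOpenImmersion.lift U.ι A.1 (by rw [Scheme.Opens.range_ι]; exact hA)
    let B₀ : Spec (CommRingCat.of K) ⟶ (U : Scheme.{u}) :=
      IsOpenImmersion.lift U.ι B.1 (by rw [Scheme.Opens.range_ι]; exact hB)
    have hA₀ : A₀ ≫ U.ι = A.1 := IsOpenImmersion.lift_fac _ _ _
    have hB₀ : B₀ ≫ U.ι = B.1 := IsOpenImmersion.lift_fac _ _ _
    let A₁ : REq.Pts (U.ι ≫ f) K := ⟨A₀, by rw [← Category.assoc, hA₀]; exact A.2⟩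
    let B₁ : REq.Pts (U.ι ≫ f) K := ⟨B₀, by rw [← Category.assoc, hB₀]; exact B.2⟩
    exact Relation.EqvGen.rel _ _ (elemLink_of_open f U K A B A₁ B₁ hA₀ hB₀
      (elemLink_of_retract f U n V a b hab ha hb K A₁ B₁))

end Groth.Agent.Helper2.REqLib
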