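import Mathlib
import Groth.Prelude.Def_W4c5nonratstablectREq
import Groth.Agent.Lib.Helper1.ProjUP1
import Groth.Agent.Lib.Helper6.ProjChart
import Groth.Agent.Lib.Helper2.REqLib.Link

/-!
# Direct R-links in opens of projective space (helper2)

Two `K`-points of `P^n_k` lie in a common chart `D_+(ℓ)` with `ℓ` one of `T_i`, `T_i + T_j`; the
line through them inside this chart links them.
-/

set_option autoImplicit false
set_option backward.isDefEq.respectTransparency.types false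
set_option synthInstance.maxHeartbeats 400000
set_option maxHeartbeats 4000000
set_option linter.style.haveILetI false
set_option linter.unusedSectionVars false
set_option linter.unusedVariables false
set_option linter.unusedSimpArgs false

universe u

open CategoryTheory CategoryTheory.Limits AlgebraicGeometry HomogeneousLocalization

namespace Groth.Agent.Helper2.REqLib

open Groth.Agent.Helper1.ProjUP1

section G

variable {A S : Type u} [CommRing A] [CommRing S] [Algebra A S] (𝒮 : ℕ → Submodule A S)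
  [GradedAlgebra 𝒮]
variable {B : Type u} [CommRing B] {t : S} (ht : t ∈ 𝒮 1)

theorem mem_smul_one {n : ℕ} {a : S} (ha : a ∈ 𝒮 n) : a ∈ 𝒮 (n • 1) := by simpa using ha

/-- the ring homomorphism `a ↦ ρ (a / t^{deg a})` -/
noncomputable def homG (ρ : Away 𝒮 t →+* B) : S →+* B :=
  (DirectSum.toSemiring (fun n =>
    ({ toFun := fun a => ρ (Away.mk 𝒮 ht n (a : S) (mem_smul_one 𝒮 a.2))
       map_zero' := by
        have : Away.mk 𝒮 ht n ((0 : 𝒮 n) : S) (mem_smul_one 𝒮 (0 : 𝒮 n).2) = 0 := by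
          apply HomogeneousLocalization.val_injective
          rw [Away.val_mk, HomogeneousLocalization.val_zero]
          exact Localization.mk_zero _
        rw [this, map_zero]
       map_add' := fun a b => by
        have : Away.mk 𝒮 ht n ((a + b : 𝒮 n) : S) (mem_smul_one 𝒮 (a + b).2) =
            Away.mk 𝒮 ht n (a : S) (mem_smul_one 𝒮 a.2) +
              Away.mk 𝒮 ht n (b : S) (mem_smul_one 𝒮 b.2) := by
          apply HomogeneousLocalization.val_injective
          rw [HomogeneousLocalization.val_add, Away.val_mk, Away.val_mk, Away.val_mk,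
            Localization.add_mk_self]
          rfl
        rw [this, map_add] } : 𝒮 n →+ B))
    (by
      change ρ (Away.mk 𝒮 ht 0 (1 : S) _) = 1
      have : Away.mk 𝒮 ht 0 (1 : S) (mem_smul_one 𝒮 (SetLike.GradedOne.one_mem)) = 1 := by
        apply HomogeneousLocalization.val_injective
        rw [Away.val_mk, HomogeneousLocalization.val_one]
        simp only [pow_zero]
        exact Localization.mk_self 1
      rw [this, map_one])
    (by
      intro i j ai aj
      change ρ (Away.mk 𝒮 ht (i + j) ((ai : S) * (aj : S)) _) =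
        ρ (Away.mk 𝒮 ht i (ai : S) _) * ρ (Away.mk 𝒮 ht j (aj : S) _)
      rw [← map_mul]
      congr 1
      apply HomogeneousLocalization.val_injective
      rw [HomogeneousLocalization.val_mul, Away.val_mk, Away.val_mk, Away.val_mk,
        Localization.mk_mul]
      congr 1
      apply Subtype.ext
      exact pow_add _ _ _)).comp (DirectSum.decomposeRingEquiv 𝒮).toRingHom

theorem homG_of_mem (ρ : Away 𝒮 t →+* B) {n : ℕ} {a : S} (ha : a ∈ 𝒮 n) :
    homG 𝒮 ht ρ a = ρ (Away.mk 𝒮 ht n a (mem_smul_one 𝒮 ha)) := by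
  unfold homG
  rw [RingHom.comp_apply]
  change (DirectSum.toSemiring _ _ _) (DirectSum.decompose 𝒮 a) = _
  rw [DirectSum.decompose_of_mem 𝒮 ha, DirectSum.toSemiring_of]
  rfl

theorem homG_self (ρ : Away 𝒮 t →+* B) : homG 𝒮 ht ρ t = 1 := by
  rw [homG_of_mem 𝒮 ht ρ ht]
  have : Away.mk 𝒮 ht 1 t (mem_smul_one 𝒮 ht) = 1 := by
    apply HomogeneousLocalization.val_injective
    rw [Away.val_mk, HomogeneousLocalization.val_one]
    simp only [pow_one]
    exact Localization.mk_self (⟨t, ⟨1, pow_one t⟩⟩ : Submonoid.powers t)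
  rw [this, map_one]

theorem awayLift_congr {F F' : S →+* B} (h : F = F') (hu : IsUnit (F t)) (hu' : IsUnit (F' t)) :
    awayLift 𝒮 F t hu = awayLift 𝒮 F' t hu' := by
  subst h; rfl

theorem awayLift_homG (ρ : Away 𝒮 t →+* B) (hu : IsUnit (homG 𝒮 ht ρ t)) :
    awayLift 𝒮 (homG 𝒮 ht ρ) t hu = ρ := by
  apply awayLift_ext 𝒮 ht
  intro n x hx
  rw [awayLift_mk 𝒮 _ ht hu n x hx]
  have hx' : x ∈ 𝒮 n := by simpa using hx
  rw [homG_of_mem 𝒮 ht ρ hx']
  have h1 : ((hu.unit⁻¹ : Bˣ) : B) = 1 := by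
    have : hu.unit = 1 := by
      ext
      simp [homG_self]
    rw [this]; simp
  rw [h1, one_pow, mul_one]

end G

section Pn

variable (n : ℕ)

/-- the polynomial ring `ℤ[T_0, …, T_n]` -/
abbrev SSn : Type u := MvPolynomial (Fin (n + 1)) (ULift.{u} ℤ)

/-- its grading -/
noncomputable abbrev grn : ℕ → Submodule (ULift.{u} ℤ) (SSn.{u} n) :=
  CohB1.polyGrading n (ULift.{u} ℤ)

theorem Xn_mem (i : Fin (n + 1)) : (MvPolynomial.X i : SSn.{u} n) ∈ grn.{u} n 1 :=
  MvPolynomial.isHomogeneous_X _ i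

theorem ulift_int_hom_ext {B : Type u} [CommRing B] (f g : ULift.{u} ℤ →+* B) : f = g := by
  have h := RingHom.ext_int (f.comp (ULift.ringEquiv : ULift.{u} ℤ ≃+* ℤ).symm.toRingHom)
    (g.comp (ULift.ringEquiv : ULift.{u} ℤ ≃+* ℤ).symm.toRingHom)
  ext z
  have := RingHom.congr_fun h (ULift.ringEquiv z)
  simp only [RingHom.comp_apply, RingEquiv.toRingHom_eq_coe, RingHom.coe_coe,
    RingEquiv.symm_apply_apply] at this
  exact this

variable (K : Type u) [Field K]

/-- the line through two points given in homogeneous coordinates -/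
noncomputable def lineHomZ (G₁ G₂ : SSn.{u} n →+* K) : SSn.{u} n →+* Polynomial K :=
  MvPolynomial.eval₂Hom (intHom (Polynomial K))
    (fun m => Polynomial.C (G₁ (MvPolynomial.X m)) * (1 - Polynomial.X) +
      Polynomial.C (G₂ (MvPolynomial.X m)) * Polynomial.X)

theorem eval_comp_lineHomZ (G₁ G₂ : SSn.{u} n →+* K) :
    (Polynomial.evalRingHom (0 : K)).comp (lineHomZ n K G₁ G₂) = G₁ ∧
      (Polynomial.evalRingHom (1 : K)).comp (lineHomZ n K G₁ G₂) = G₂ := by
  constructor
  · apply MvPolynomial.ringHom_ext'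
    · exact ulift_int_hom_ext _ _
    · intro m
      simp [lineHomZ]
  · apply MvPolynomial.ringHom_ext'
    · exact ulift_int_hom_ext _ _
    · intro m
      simp [lineHomZ]

/-- forms on which the line homomorphism is "linear" -/
def IsLin (ℓ : SSn.{u} n) : Prop :=
  ∀ G₁ G₂ : SSn.{u} n →+* K, lineHomZ n K G₁ G₂ ℓ =
    Polynomial.C (G₁ ℓ) * (1 - Polynomial.X) + Polynomial.C (G₂ ℓ) * Polynomial.X

theorem isLin_X (i : Fin (n + 1)) : IsLin n K (MvPolynomial.X i) := by
  intro G₁ G₂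
  simp [lineHomZ]

theorem isLin_add {ℓ₁ ℓ₂ : SSn.{u} n} (h₁ : IsLin n K ℓ₁) (h₂ : IsLin n K ℓ₂) :
    IsLin n K (ℓ₁ + ℓ₂) := by
  intro G₁ G₂
  rw [map_add, h₁ G₁ G₂, h₂ G₁ G₂, map_add, map_add, map_add, map_add]
  ring

/-- two points of projective space lie in a common chart of the form `T_i` or `T_i + T_j` -/
theorem exists_form (x y : Proj (grn.{u} n)) :
    ∃ ℓ : SSn.{u} n, ℓ ∈ grn.{u} n 1 ∧ IsLin n K ℓ ∧
      x ∈ Proj.basicOpen (grn.{u} n) ℓ ∧ y ∈ Proj.basicOpen (grn.{u} n) ℓ := by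
  have hcov := Groth.Agent.Lib.Helper6.ProjChart.cover n (ULift.{u} ℤ)
  obtain ⟨i, hi⟩ : ∃ i, x ∈ Proj.basicOpen (grn.{u} n) (MvPolynomial.X i) := by
    have : x ∈ (⊤ : (Proj (grn.{u} n)).Opens) := trivial
    rw [← hcov] at this
    exact TopologicalSpace.Opens.mem_iSup.1 this
  obtain ⟨j, hj⟩ : ∃ j, y ∈ Proj.basicOpen (grn.{u} n) (MvPolynomial.X j) := by
    have : y ∈ (⊤ : (Proj (grn.{u} n)).Opens) := trivial
    rw [← hcov] at this
    exact TopologicalSpace.Opens.mem_iSup.1 this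
  rw [Proj.mem_basicOpen] at hi hj
  by_cases h1 : (MvPolynomial.X i : SSn.{u} n) ∈ y.asHomogeneousIdeal
  · by_cases h2 : (MvPolynomial.X j : SSn.{u} n) ∈ x.asHomogeneousIdeal
    · refine ⟨MvPolynomial.X i + MvPolynomial.X j, Submodule.add_mem _ (Xn_mem n i) (Xn_mem n j),
        isLin_add n K (isLin_X n K i) (isLin_X n K j), ?_, ?_⟩
      · rw [Proj.mem_basicOpen]
        intro h
        apply hi
        have h3 : (MvPolynomial.X i + MvPolynomial.X j : SSn.{u} n) ∈
            x.asHomogeneousIdeal.toIdeal := h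
        have h4 : (MvPolynomial.X j : SSn.{u} n) ∈ x.asHomogeneousIdeal.toIdeal := h2
        exact (Ideal.add_mem_iff_left _ h4).1 h3
      · rw [Proj.mem_basicOpen]
        intro h
        apply hj
        have h3 : (MvPolynomial.X i + MvPolynomial.X j : SSn.{u} n) ∈
            y.asHomogeneousIdeal.toIdeal := h
        have h4 : (MvPolynomial.X i : SSn.{u} n) ∈ y.asHomogeneousIdeal.toIdeal := h1
        exact (Ideal.add_mem_iff_right _ h4).1 h3
    · exact ⟨MvPolynomial.X j, Xn_mem n j, isLin_X n K j, (Proj.mem_basicOpen _ _ _).2 h2,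
        (Proj.mem_basicOpen _ _ _).2 hj⟩
  · exact ⟨MvPolynomial.X i, Xn_mem n i, isLin_X n K i, (Proj.mem_basicOpen _ _ _).2 hi,
      (Proj.mem_basicOpen _ _ _).2 h1⟩

variable {n K}

/-- a `K`-point of `D_+(ℓ)` in homogeneous coordinates -/
theorem exists_coords {ℓ : SSn.{u} n} (hℓ : ℓ ∈ grn.{u} n 1)
    (P : Spec (CommRingCat.of K) ⟶ Proj (grn.{u} n))
    (hP : P default ∈ Proj.basicOpen (grn.{u} n) ℓ) :
    ∃ G : SSn.{u} n →+* K, G ℓ = 1 ∧ ∀ hu : IsUnit (G ℓ),
      P = Spec.map (CommRingCat.ofHom (awayLift (grn.{u} n) G ℓ hu)) ≫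
        Proj.awayι (grn.{u} n) ℓ hℓ Nat.one_pos := by
  have hrange : Set.range P.base ⊆
      Set.range (Proj.awayι (grn.{u} n) ℓ hℓ Nat.one_pos).base := by
    rintro _ ⟨z, rfl⟩
    have hz : z = default := Subsingleton.elim _ _
    rw [hz]
    have h1 : (Proj.awayι (grn.{u} n) ℓ hℓ Nat.one_pos).opensRange =
        Proj.basicOpen (grn.{u} n) ℓ := Proj.opensRange_awayι _ _ _ _
    rw [← h1] at hP
    exact hP
  let αP := IsOpenImmersion.lift (Proj.awayι (grn.{u} n) ℓ hℓ Nat.one_pos) P hrange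
  have hαP : αP ≫ Proj.awayι (grn.{u} n) ℓ hℓ Nat.one_pos = P := IsOpenImmersion.lift_fac _ _ _
  let α := Spec.preimage αP
  have hα : Spec.map α = αP := Spec.map_preimage _
  refine ⟨homG (grn.{u} n) hℓ α.hom, homG_self _ _ _, fun hu => ?_⟩
  rw [awayLift_homG (grn.{u} n) hℓ α.hom hu]
  change P = Spec.map α ≫ _
  rw [hα, hαP]

end Pn

section Main

variable {k : Type u} [Field k] (n : ℕ)

/-- the projection `P^n_k ⟶ P^n_ℤ` -/
noncomputable def fstN (k : Type u) [Field k] (n : ℕ) :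
    CohB1.ProjSpaceOver n (Spec (CommRingCat.of k)) ⟶ Proj (grn.{u} n) :=
  pullback.fst (CohB1.ProjSpace.toSpec n (ULift.{u} ℤ))
    (specULiftZIsTerminal.from (Spec (CommRingCat.of k)))

theorem projSpaceOver_hom_ext {T : Scheme.{u}}
    (a b : T ⟶ CohB1.ProjSpaceOver n (Spec (CommRingCat.of k)))
    (h1 : a ≫ fstN k n = b ≫ fstN k n)
    (h2 : a ≫ CohB1.ProjSpaceOver.toBase n (Spec (CommRingCat.of k)) =
      b ≫ CohB1.ProjSpaceOver.toBase n (Spec (CommRingCat.of k))) : a = b :=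
  pullback.hom_ext h1 h2

/-- a morphism to `P^n_k` from its two components -/
noncomputable def liftN {T : Scheme.{u}} (a : T ⟶ Proj (grn.{u} n))
    (b : T ⟶ Spec (CommRingCat.of k)) : T ⟶ CohB1.ProjSpaceOver n (Spec (CommRingCat.of k)) :=
  pullback.lift a b (specULiftZIsTerminal.hom_ext _ _)

theorem liftN_fst {T : Scheme.{u}} (a : T ⟶ Proj (grn.{u} n))
    (b : T ⟶ Spec (CommRingCat.of k)) : liftN n a b ≫ fstN k n = a :=
  pullback.lift_fst _ _ _

theorem liftN_snd {T : Scheme.{u}} (a : T ⟶ Proj (grn.{u} n))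
    (b : T ⟶ Spec (CommRingCat.of k)) :
    liftN n a b ≫ CohB1.ProjSpaceOver.toBase n (Spec (CommRingCat.of k)) = b :=
  pullback.lift_snd _ _ _

/-- **Two `K`-points of an open of projective space are directly R-linked.** -/
theorem elemLink_projSpace (V : (CohB1.ProjSpaceOver n (Spec (CommRingCat.of k))).Opens)
    (K : Type u) [Field K] [Algebra k K]
    (A B : REq.Pts (V.ι ≫ CohB1.ProjSpaceOver.toBase n (Spec (CommRingCat.of k))) K) :
    REq.ElemLink (V.ι ≫ CohB1.ProjSpaceOver.toBase n (Spec (CommRingCat.of k))) K A B := by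
  let A₁ : Spec (CommRingCat.of K) ⟶ Proj (grn.{u} n) := A.1 ≫ V.ι ≫ fstN k n
  let B₁ : Spec (CommRingCat.of K) ⟶ Proj (grn.{u} n) := B.1 ≫ V.ι ≫ fstN k n
  obtain ⟨ℓ, hℓ, hlin, hxA, hxB⟩ := exists_form n K (A₁ default) (B₁ default)
  obtain ⟨G₁, hG₁, hA₁⟩ := exists_coords hℓ A₁ hxA
  obtain ⟨G₂, hG₂, hB₁⟩ := exists_coords hℓ B₁ hxB
  let F := lineHomZ n K G₁ G₂
  have hFℓ : F ℓ = 1 := by
    change lineHomZ n K G₁ G₂ ℓ = 1
    rw [hlin G₁ G₂, hG₁, hG₂]
    simp
  have hu : IsUnit (F ℓ) := by rw [hFℓ]; exact isUnit_one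
  obtain ⟨h0, h1⟩ := eval_comp_lineHomZ n K G₁ G₂
  let lineZ : Spec (CommRingCat.of (Polynomial K)) ⟶ Proj (grn.{u} n) :=
    Spec.map (CommRingCat.ofHom (awayLift (grn.{u} n) F ℓ hu)) ≫
      Proj.awayι (grn.{u} n) ℓ hℓ Nat.one_pos
  let line : Spec (CommRingCat.of (Polynomial K)) ⟶
      CohB1.ProjSpaceOver n (Spec (CommRingCat.of k)) :=
    liftN n lineZ (polyToK K ≫ REq.specMap k K)
  have hpt : ∀ (c : K) (G : SSn.{u} n →+* K) (hGu : IsUnit (G ℓ)),
      (Polynomial.evalRingHom c).comp F = G →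
      evalPt K c ≫ lineZ = Spec.map (CommRingCat.ofHom (awayLift (grn.{u} n) G ℓ hGu)) ≫
        Proj.awayι (grn.{u} n) ℓ hℓ Nat.one_pos := by
    intro c G hGu hG
    change Spec.map _ ≫ Spec.map _ ≫ _ = _
    rw [← Category.assoc, ← Spec.map_comp, ← CommRingCat.ofHom_comp]
    have hu' : IsUnit (((Polynomial.evalRingHom c).comp F) ℓ) := by rw [hG]; exact hGu
    rw [comp_awayLift (grn.{u} n) (Polynomial.evalRingHom c) F hℓ hu hu',
      awayLift_congr (grn.{u} n) hG hu' hGu]
  refine elemLink_of_line (CohB1.ProjSpaceOver.toBase n (Spec (CommRingCat.of k))) V line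
    (liftN_snd n _ _) A B ?_ ?_
  · apply projSpaceOver_hom_ext
    · rw [Category.assoc, Category.assoc, liftN_fst]
      have hGu : IsUnit (G₁ ℓ) := by rw [hG₁]; exact isUnit_one
      rw [hpt 0 G₁ hGu h0]
      exact hA₁ hGu
    · rw [Category.assoc, Category.assoc, liftN_snd, ← Category.assoc (evalPt K 0),
        evalPt_polyToK, Category.id_comp]
      exact A.2
  · apply projSpaceOver_hom_ext
    · rw [Category.assoc, Category.assoc, liftN_fst]
      have hGu : IsUnit (G₂ ℓ) := by rw [hG₂]; exact isUnit_one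
      rw [hpt 1 G₂ hGu h1]
      exact hB₁ hGu
    · rw [Category.assoc, Category.assoc, liftN_snd, ← Category.assoc (evalPt K 1),
        evalPt_polyToK, Category.id_comp]
      exact B.2

end Main

end Groth.Agent.Helper2.REqLib
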